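import Cfsg.Agent.H44.He.Sylow

/-!
Relation checks for the Held certificates, one block of relations at a time.
-/

set_option autoImplicit false

namespace Cfsg.Agent.H44.He

open Cfsg.Agent.H45 Cfsg.Agent.Linear.Mult

/-- The check of relation `i`. -/
noncomputable def relIdxOK (C : Cfsg.Agent.H34.SylCert.Cert) (K : List ℕ) (i : ℕ) : Bool :=
  (C.rels.getD i []).all (fun x => Nat.blt x (2 * C.ng)) &&
    fixAll ((C.rels.getD i []).map fun x => K.getD x 0) 2058

theorem relBlock_spec {C : Cfsg.Agent.H34.SylCert.Cert} {K : List ℕ} {a m : ℕ}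
    (h : (List.range' a m).all (relIdxOK C K) = true) {i : ℕ} (ha : a ≤ i) (hi : i < a + m) :
    relIdxOK C K i = true :=
  List.all_eq_true.1 h i (List.mem_range'_1.2 ⟨ha, hi⟩)

theorem rels_of_idx {C : Cfsg.Agent.H34.SylCert.Cert} {K : List ℕ} {n : ℕ}
    (h : Nat.beq C.rels.length n = true) (hi : ∀ i < n, relIdxOK C K i = true) :
    (C.rels.all fun w => w.all (fun x => Nat.blt x (2 * C.ng)) &&
      fixAll (w.map fun x => K.getD x 0) 2058) = true := by
  rw [List.all_eq_true]
  intro w hw
  obtain ⟨i, hl, rfl⟩ := List.getElem_of_mem hw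
  have := hi i (Nat.eq_of_beq_eq_true h ▸ hl)
  rwa [relIdxOK, List.getD_eq_getElem _ _ hl] at this

/-- The check of the word of letter `x`. -/
noncomputable def wordIdxOK (W : List (List ℕ)) (K : List ℕ) (x : ℕ) : Bool :=
  (sword W x).all (fun l => Nat.blt l 7) &&
    colEq ((sword W x).map fun l => HeI2058.cols.getD l 0) (K.getD x 0) 2058

end Cfsg.Agent.H44.He
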