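import Cfsg.Agent.H44.He.Blocks
import Cfsg.Agent.H44.He.Five

/-!
Kernel checks of the certificate at the prime five for the Held group.
-/

set_option autoImplicit false
set_option Elab.async false
set_option maxRecDepth 100000

namespace Cfsg.Agent.H44.He

open Cfsg.Agent.H45 Cfsg.Agent.Linear.Mult

theorem five_cert_ok : Five.cert.check = true := by decide +kernel

theorem five_perm_ok : (Nat.beq Five.words.length Five.cert.ng &&
    permCheck (2 * Five.cert.ng) 2058 (ivs (2 * Five.cert.ng)) Five.cols []) = true := by decide +kernel

theorem five_word_0 : wordIdxOK Five.words Five.cols 0 = true := by decide +kernel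

theorem five_word_1 : wordIdxOK Five.words Five.cols 1 = true := by decide +kernel

theorem five_word_2 : wordIdxOK Five.words Five.cols 2 = true := by decide +kernel

theorem five_word_3 : wordIdxOK Five.words Five.cols 3 = true := by decide +kernel

theorem five_word_4 : wordIdxOK Five.words Five.cols 4 = true := by decide +kernel

theorem five_word_5 : wordIdxOK Five.words Five.cols 5 = true := by decide +kernel

theorem five_word_6 : wordIdxOK Five.words Five.cols 6 = true := by decide +kernel

theorem five_word_7 : wordIdxOK Five.words Five.cols 7 = true := by decide +kernel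

theorem five_word_ok : ((List.range (2 * Five.cert.ng)).all fun x => (sword Five.words x).all (fun l => Nat.blt l 7) &&
    colEq ((sword Five.words x).map fun l => HeI2058.cols.getD l 0) (Five.cols.getD x 0) 2058) = true := by
  refine List.all_eq_true.2 fun x hx => ?_
  show wordIdxOK Five.words Five.cols x = true
  have hx' : x < 8 := List.mem_range.1 hx
  interval_cases x
  exacts [five_word_0,
    five_word_1,
    five_word_2,
    five_word_3,
    five_word_4,
    five_word_5,
    five_word_6,
    five_word_7]

theorem five_rel_0 : (List.range' 0 2).all (relIdxOK Five.cert Five.cols) = true := by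
  decide +kernel

theorem five_rel_2 : (List.range' 2 2).all (relIdxOK Five.cert Five.cols) = true := by
  decide +kernel

theorem five_rel_4 : (List.range' 4 2).all (relIdxOK Five.cert Five.cols) = true := by
  decide +kernel

theorem five_rel_6 : (List.range' 6 1).all (relIdxOK Five.cert Five.cols) = true := by
  decide +kernel

theorem five_rels_ok : (Five.cert.rels.all fun u => u.all (fun x => Nat.blt x (2 * Five.cert.ng)) &&
    fixAll (u.map fun x => Five.cols.getD x 0) 2058) = true := by
  refine rels_of_idx (n := 7) (by decide +kernel) fun i hi => ?_
  rcases Nat.lt_or_ge i 2 with h | h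
  · exact relBlock_spec five_rel_0 (by omega) (by omega)
  rcases Nat.lt_or_ge i 4 with h | h
  · exact relBlock_spec five_rel_2 (by omega) (by omega)
  rcases Nat.lt_or_ge i 6 with h | h
  · exact relBlock_spec five_rel_4 (by omega) (by omega)
  exact relBlock_spec five_rel_6 (by omega) (by omega)

theorem five_chain_ok : ((Five.chain.all fun lv => lv.gens.all fun g => g.all fun x =>
      Nat.beq (x % 2) 0 && Nat.blt (x / 2) Five.cert.n) &&
    chainCheck (2 * Five.cert.ng) 2058 Five.cols Five.chain && Nat.beq (chainProd Five.chain) (Five.cert.l ^ Five.cert.n)) = true := by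
  decide +kernel

theorem five_data_ok : dataOK Five.cert Five.words Five.cols Five.chain = true := by
  have h1 := five_perm_ok
  have h2 := five_word_ok
  have h3 := five_rels_ok
  have h4 := five_chain_ok
  simp only [Bool.and_eq_true] at h1 h4
  simp only [dataOK, Bool.and_eq_true]
  exact ⟨⟨⟨⟨⟨⟨h1.1, h1.2⟩, h2⟩, h3⟩, h4.1.1⟩, h4.1.2⟩, h4.2⟩

theorem five_ok : Five.cert.check = true ∧
    dataOK Five.cert Five.words Five.cols Five.chain = true :=
  ⟨five_cert_ok, five_data_ok⟩

end Cfsg.Agent.H44.He
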