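import Cfsg.Agent.H44.He.Blocks
import Cfsg.Agent.H44.He.Seven

/-!
Kernel checks of the certificate at the prime seven for the Held group.
-/

set_option autoImplicit false
set_option Elab.async false
set_option maxRecDepth 100000

namespace Cfsg.Agent.H44.He

open Cfsg.Agent.H45 Cfsg.Agent.Linear.Mult

theorem seven_cert_ok : Seven.cert.check = true := by decide +kernel

theorem seven_perm_ok : (Nat.beq Seven.words.length Seven.cert.ng &&
    permCheck (2 * Seven.cert.ng) 2058 (ivs (2 * Seven.cert.ng)) Seven.cols []) = true := by decide +kernel

theorem seven_word_0 : wordIdxOK Seven.words Seven.cols 0 = true := by decide +kernel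

theorem seven_word_1 : wordIdxOK Seven.words Seven.cols 1 = true := by decide +kernel

theorem seven_word_2 : wordIdxOK Seven.words Seven.cols 2 = true := by decide +kernel

theorem seven_word_3 : wordIdxOK Seven.words Seven.cols 3 = true := by decide +kernel

theorem seven_word_4 : wordIdxOK Seven.words Seven.cols 4 = true := by decide +kernel

theorem seven_word_5 : wordIdxOK Seven.words Seven.cols 5 = true := by decide +kernel

theorem seven_word_6 : wordIdxOK Seven.words Seven.cols 6 = true := by decide +kernel

theorem seven_word_7 : wordIdxOK Seven.words Seven.cols 7 = true := by decide +kernel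

theorem seven_word_8 : wordIdxOK Seven.words Seven.cols 8 = true := by decide +kernel

theorem seven_word_9 : wordIdxOK Seven.words Seven.cols 9 = true := by decide +kernel

theorem seven_word_ok : ((List.range (2 * Seven.cert.ng)).all fun x => (sword Seven.words x).all (fun l => Nat.blt l 7) &&
    colEq ((sword Seven.words x).map fun l => HeI2058.cols.getD l 0) (Seven.cols.getD x 0) 2058) = true := by
  refine List.all_eq_true.2 fun x hx => ?_
  show wordIdxOK Seven.words Seven.cols x = true
  have hx' : x < 10 := List.mem_range.1 hx
  interval_cases x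
  exacts [seven_word_0,
    seven_word_1,
    seven_word_2,
    seven_word_3,
    seven_word_4,
    seven_word_5,
    seven_word_6,
    seven_word_7,
    seven_word_8,
    seven_word_9]

theorem seven_rel_0 : (List.range' 0 2).all (relIdxOK Seven.cert Seven.cols) = true := by
  decide +kernel

theorem seven_rel_2 : (List.range' 2 2).all (relIdxOK Seven.cert Seven.cols) = true := by
  decide +kernel

theorem seven_rel_4 : (List.range' 4 2).all (relIdxOK Seven.cert Seven.cols) = true := by
  decide +kernel

theorem seven_rel_6 : (List.range' 6 2).all (relIdxOK Seven.cert Seven.cols) = true := by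
  decide +kernel

theorem seven_rel_8 : (List.range' 8 2).all (relIdxOK Seven.cert Seven.cols) = true := by
  decide +kernel

theorem seven_rel_10 : (List.range' 10 2).all (relIdxOK Seven.cert Seven.cols) = true := by
  decide +kernel

theorem seven_rels_ok : (Seven.cert.rels.all fun u => u.all (fun x => Nat.blt x (2 * Seven.cert.ng)) &&
    fixAll (u.map fun x => Seven.cols.getD x 0) 2058) = true := by
  refine rels_of_idx (n := 12) (by decide +kernel) fun i hi => ?_
  rcases Nat.lt_or_ge i 2 with h | h
  · exact relBlock_spec seven_rel_0 (by omega) (by omega)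
  rcases Nat.lt_or_ge i 4 with h | h
  · exact relBlock_spec seven_rel_2 (by omega) (by omega)
  rcases Nat.lt_or_ge i 6 with h | h
  · exact relBlock_spec seven_rel_4 (by omega) (by omega)
  rcases Nat.lt_or_ge i 8 with h | h
  · exact relBlock_spec seven_rel_6 (by omega) (by omega)
  rcases Nat.lt_or_ge i 10 with h | h
  · exact relBlock_spec seven_rel_8 (by omega) (by omega)
  exact relBlock_spec seven_rel_10 (by omega) (by omega)

theorem seven_chain_ok : ((Seven.chain.all fun lv => lv.gens.all fun g => g.all fun x =>
      Nat.beq (x % 2) 0 && Nat.blt (x / 2) Seven.cert.n) &&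
    chainCheck (2 * Seven.cert.ng) 2058 Seven.cols Seven.chain && Nat.beq (chainProd Seven.chain) (Seven.cert.l ^ Seven.cert.n)) = true := by
  decide +kernel

theorem seven_data_ok : dataOK Seven.cert Seven.words Seven.cols Seven.chain = true := by
  have h1 := seven_perm_ok
  have h2 := seven_word_ok
  have h3 := seven_rels_ok
  have h4 := seven_chain_ok
  simp only [Bool.and_eq_true] at h1 h4
  simp only [dataOK, Bool.and_eq_true]
  exact ⟨⟨⟨⟨⟨⟨h1.1, h1.2⟩, h2⟩, h3⟩, h4.1.1⟩, h4.1.2⟩, h4.2⟩

theorem seven_ok : Seven.cert.check = true ∧
    dataOK Seven.cert Seven.words Seven.cols Seven.chain = true :=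
  ⟨seven_cert_ok, seven_data_ok⟩

end Cfsg.Agent.H44.He
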