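import Cfsg.Agent.H44.He.Blocks
import Cfsg.Agent.H44.He.Two

/-!
Kernel checks of relations at the prime two for the Held group, part 1.
-/

set_option autoImplicit false
set_option Elab.async false
set_option maxRecDepth 100000

namespace Cfsg.Agent.H44.He

open Cfsg.Agent.H45 Cfsg.Agent.Linear.Mult

theorem two_rel_0 : (List.range' 0 2).all (relIdxOK Two.cert Two.cols) = true := by
  decide +kernel

theorem two_rel_2 : (List.range' 2 2).all (relIdxOK Two.cert Two.cols) = true := by
  decide +kernel

theorem two_rel_4 : (List.range' 4 2).all (relIdxOK Two.cert Two.cols) = true := by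
  decide +kernel

theorem two_rel_6 : (List.range' 6 2).all (relIdxOK Two.cert Two.cols) = true := by
  decide +kernel

theorem two_rel_8 : (List.range' 8 2).all (relIdxOK Two.cert Two.cols) = true := by
  decide +kernel

theorem two_rel_10 : (List.range' 10 2).all (relIdxOK Two.cert Two.cols) = true := by
  decide +kernel

theorem two_rel_12 : (List.range' 12 2).all (relIdxOK Two.cert Two.cols) = true := by
  decide +kernel

theorem two_rel_14 : (List.range' 14 2).all (relIdxOK Two.cert Two.cols) = true := by
  decide +kernel

theorem two_rel_16 : (List.range' 16 2).all (relIdxOK Two.cert Two.cols) = true := by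
  decide +kernel

theorem two_rel_18 : (List.range' 18 2).all (relIdxOK Two.cert Two.cols) = true := by
  decide +kernel

theorem two_rel_20 : (List.range' 20 2).all (relIdxOK Two.cert Two.cols) = true := by
  decide +kernel

theorem two_rel_22 : (List.range' 22 2).all (relIdxOK Two.cert Two.cols) = true := by
  decide +kernel

theorem two_rel_24 : (List.range' 24 2).all (relIdxOK Two.cert Two.cols) = true := by
  decide +kernel

theorem two_rel_26 : (List.range' 26 2).all (relIdxOK Two.cert Two.cols) = true := by
  decide +kernel

theorem two_rel_28 : (List.range' 28 2).all (relIdxOK Two.cert Two.cols) = true := by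
  decide +kernel

end Cfsg.Agent.H44.He
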