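import Cfsg.Agent.H44.He.Blocks
import Cfsg.Agent.H44.He.Two

/-!
Kernel checks of relations at the prime two for the Held group, part 2.
-/

set_option autoImplicit false
set_option Elab.async false
set_option maxRecDepth 100000

namespace Cfsg.Agent.H44.He

open Cfsg.Agent.H45 Cfsg.Agent.Linear.Mult

theorem two_rel_30 : (List.range' 30 2).all (relIdxOK Two.cert Two.cols) = true := by
  decide +kernel

theorem two_rel_32 : (List.range' 32 2).all (relIdxOK Two.cert Two.cols) = true := by
  decide +kernel

theorem two_rel_34 : (List.range' 34 2).all (relIdxOK Two.cert Two.cols) = true := by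
  decide +kernel

theorem two_rel_36 : (List.range' 36 2).all (relIdxOK Two.cert Two.cols) = true := by
  decide +kernel

theorem two_rel_38 : (List.range' 38 2).all (relIdxOK Two.cert Two.cols) = true := by
  decide +kernel

theorem two_rel_40 : (List.range' 40 2).all (relIdxOK Two.cert Two.cols) = true := by
  decide +kernel

theorem two_rel_42 : (List.range' 42 2).all (relIdxOK Two.cert Two.cols) = true := by
  decide +kernel

theorem two_rel_44 : (List.range' 44 2).all (relIdxOK Two.cert Two.cols) = true := by
  decide +kernel

theorem two_rel_46 : (List.range' 46 2).all (relIdxOK Two.cert Two.cols) = true := by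
  decide +kernel

theorem two_rel_48 : (List.range' 48 2).all (relIdxOK Two.cert Two.cols) = true := by
  decide +kernel

theorem two_rel_50 : (List.range' 50 2).all (relIdxOK Two.cert Two.cols) = true := by
  decide +kernel

theorem two_rel_52 : (List.range' 52 2).all (relIdxOK Two.cert Two.cols) = true := by
  decide +kernel

theorem two_rel_54 : (List.range' 54 2).all (relIdxOK Two.cert Two.cols) = true := by
  decide +kernel

theorem two_rel_56 : (List.range' 56 2).all (relIdxOK Two.cert Two.cols) = true := by
  decide +kernel

theorem two_rel_58 : (List.range' 58 2).all (relIdxOK Two.cert Two.cols) = true := by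
  decide +kernel

end Cfsg.Agent.H44.He
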