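import Cfsg.Agent.H44.He.Blocks
import Cfsg.Agent.H44.He.Two

/-!
Kernel checks of relations at the prime two for the Held group, part 3.
-/

set_option autoImplicit false
set_option Elab.async false
set_option maxRecDepth 100000

namespace Cfsg.Agent.H44.He

open Cfsg.Agent.H45 Cfsg.Agent.Linear.Mult

theorem two_rel_60 : (List.range' 60 2).all (relIdxOK Two.cert Two.cols) = true := by
  decide +kernel

theorem two_rel_62 : (List.range' 62 2).all (relIdxOK Two.cert Two.cols) = true := by
  decide +kernel

theorem two_rel_64 : (List.range' 64 2).all (relIdxOK Two.cert Two.cols) = true := by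
  decide +kernel

theorem two_rel_66 : (List.range' 66 2).all (relIdxOK Two.cert Two.cols) = true := by
  decide +kernel

theorem two_rel_68 : (List.range' 68 2).all (relIdxOK Two.cert Two.cols) = true := by
  decide +kernel

theorem two_rel_70 : (List.range' 70 2).all (relIdxOK Two.cert Two.cols) = true := by
  decide +kernel

theorem two_rel_72 : (List.range' 72 2).all (relIdxOK Two.cert Two.cols) = true := by
  decide +kernel

theorem two_rel_74 : (List.range' 74 2).all (relIdxOK Two.cert Two.cols) = true := by
  decide +kernel

theorem two_rel_76 : (List.range' 76 2).all (relIdxOK Two.cert Two.cols) = true := by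
  decide +kernel

theorem two_rel_78 : (List.range' 78 2).all (relIdxOK Two.cert Two.cols) = true := by
  decide +kernel

theorem two_rel_80 : (List.range' 80 2).all (relIdxOK Two.cert Two.cols) = true := by
  decide +kernel

theorem two_rel_82 : (List.range' 82 2).all (relIdxOK Two.cert Two.cols) = true := by
  decide +kernel

theorem two_rel_84 : (List.range' 84 2).all (relIdxOK Two.cert Two.cols) = true := by
  decide +kernel

end Cfsg.Agent.H44.He
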