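import Cfsg.Agent.H44.He.Blocks
import Cfsg.Agent.H44.He.Two

/-!
Kernel checks of the letter words at the prime two for the Held group, part 2.
-/

set_option autoImplicit false
set_option Elab.async false
set_option maxRecDepth 100000

namespace Cfsg.Agent.H44.He

theorem two_word_16 : wordIdxOK Two.words Two.cols 16 = true := by decide +kernel

theorem two_word_17 : wordIdxOK Two.words Two.cols 17 = true := by decide +kernel

theorem two_word_18 : wordIdxOK Two.words Two.cols 18 = true := by decide +kernel

theorem two_word_19 : wordIdxOK Two.words Two.cols 19 = true := by decide +kernel

theorem two_word_20 : wordIdxOK Two.words Two.cols 20 = true := by decide +kernel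

theorem two_word_21 : wordIdxOK Two.words Two.cols 21 = true := by decide +kernel

theorem two_word_22 : wordIdxOK Two.words Two.cols 22 = true := by decide +kernel

theorem two_word_23 : wordIdxOK Two.words Two.cols 23 = true := by decide +kernel

theorem two_word_24 : wordIdxOK Two.words Two.cols 24 = true := by decide +kernel

theorem two_word_25 : wordIdxOK Two.words Two.cols 25 = true := by decide +kernel

theorem two_word_26 : wordIdxOK Two.words Two.cols 26 = true := by decide +kernel

theorem two_word_27 : wordIdxOK Two.words Two.cols 27 = true := by decide +kernel

theorem two_word_28 : wordIdxOK Two.words Two.cols 28 = true := by decide +kernel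

theorem two_word_29 : wordIdxOK Two.words Two.cols 29 = true := by decide +kernel

theorem two_word_30 : wordIdxOK Two.words Two.cols 30 = true := by decide +kernel

theorem two_word_31 : wordIdxOK Two.words Two.cols 31 = true := by decide +kernel

end Cfsg.Agent.H44.He
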