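import Cfsg.Agent.H44.He.CheckTwoWordsA
import Cfsg.Agent.H44.He.CheckTwoWordsB
import Cfsg.Agent.H44.He.CheckTwoRelsA
import Cfsg.Agent.H44.He.CheckTwoRelsB
import Cfsg.Agent.H44.He.CheckTwoRelsC

/-!
Kernel checks of the certificate at the prime two for the Held group.
-/

set_option autoImplicit false
set_option Elab.async false
set_option maxRecDepth 100000

namespace Cfsg.Agent.H44.He

open Cfsg.Agent.H45 Cfsg.Agent.Linear.Mult

theorem two_shape_ok : Two.cert.checkShape = true := by decide +kernel

theorem two_syz_ok : Two.cert.checkSyz = true := by decide +kernel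

theorem two_vecs_ok : Two.cert.checkVecs = true := by decide +kernel

theorem two_targets_ok : Two.cert.checkTargets = true := by decide +kernel

theorem two_cert_ok : Two.cert.check = true := by
  simp only [Cfsg.Agent.H34.SylCert.Cert.check, two_shape_ok, two_syz_ok, two_vecs_ok,
    two_targets_ok, Bool.and_self]

theorem two_perm_ok : (Nat.beq Two.words.length Two.cert.ng &&
    permCheck (2 * Two.cert.ng) 2058 (ivs (2 * Two.cert.ng)) Two.cols []) = true := by decide +kernel

theorem two_word_ok : ((List.range (2 * Two.cert.ng)).all fun x => (sword Two.words x).all (fun l => Nat.blt l 7) &&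
    colEq ((sword Two.words x).map fun l => HeI2058.cols.getD l 0) (Two.cols.getD x 0) 2058) = true := by
  refine List.all_eq_true.2 fun x hx => ?_
  show wordIdxOK Two.words Two.cols x = true
  have hx' : x < 32 := List.mem_range.1 hx
  interval_cases x
  exacts [two_word_0,
    two_word_1,
    two_word_2,
    two_word_3,
    two_word_4,
    two_word_5,
    two_word_6,
    two_word_7,
    two_word_8,
    two_word_9,
    two_word_10,
    two_word_11,
    two_word_12,
    two_word_13,
    two_word_14,
    two_word_15,
    two_word_16,
    two_word_17,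
    two_word_18,
    two_word_19,
    two_word_20,
    two_word_21,
    two_word_22,
    two_word_23,
    two_word_24,
    two_word_25,
    two_word_26,
    two_word_27,
    two_word_28,
    two_word_29,
    two_word_30,
    two_word_31]

theorem two_rels_ok : (Two.cert.rels.all fun u => u.all (fun x => Nat.blt x (2 * Two.cert.ng)) &&
    fixAll (u.map fun x => Two.cols.getD x 0) 2058) = true := by
  refine rels_of_idx (n := 86) (by decide +kernel) fun i hi => ?_
  rcases Nat.lt_or_ge i 2 with h | h
  · exact relBlock_spec two_rel_0 (by omega) (by omega)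
  rcases Nat.lt_or_ge i 4 with h | h
  · exact relBlock_spec two_rel_2 (by omega) (by omega)
  rcases Nat.lt_or_ge i 6 with h | h
  · exact relBlock_spec two_rel_4 (by omega) (by omega)
  rcases Nat.lt_or_ge i 8 with h | h
  · exact relBlock_spec two_rel_6 (by omega) (by omega)
  rcases Nat.lt_or_ge i 10 with h | h
  · exact relBlock_spec two_rel_8 (by omega) (by omega)
  rcases Nat.lt_or_ge i 12 with h | h
  · exact relBlock_spec two_rel_10 (by omega) (by omega)
  rcases Nat.lt_or_ge i 14 with h | h
  · exact relBlock_spec two_rel_12 (by omega) (by omega)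
  rcases Nat.lt_or_ge i 16 with h | h
  · exact relBlock_spec two_rel_14 (by omega) (by omega)
  rcases Nat.lt_or_ge i 18 with h | h
  · exact relBlock_spec two_rel_16 (by omega) (by omega)
  rcases Nat.lt_or_ge i 20 with h | h
  · exact relBlock_spec two_rel_18 (by omega) (by omega)
  rcases Nat.lt_or_ge i 22 with h | h
  · exact relBlock_spec two_rel_20 (by omega) (by omega)
  rcases Nat.lt_or_ge i 24 with h | h
  · exact relBlock_spec two_rel_22 (by omega) (by omega)
  rcases Nat.lt_or_ge i 26 with h | h
  · exact relBlock_spec two_rel_24 (by omega) (by omega)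
  rcases Nat.lt_or_ge i 28 with h | h
  · exact relBlock_spec two_rel_26 (by omega) (by omega)
  rcases Nat.lt_or_ge i 30 with h | h
  · exact relBlock_spec two_rel_28 (by omega) (by omega)
  rcases Nat.lt_or_ge i 32 with h | h
  · exact relBlock_spec two_rel_30 (by omega) (by omega)
  rcases Nat.lt_or_ge i 34 with h | h
  · exact relBlock_spec two_rel_32 (by omega) (by omega)
  rcases Nat.lt_or_ge i 36 with h | h
  · exact relBlock_spec two_rel_34 (by omega) (by omega)
  rcases Nat.lt_or_ge i 38 with h | h
  · exact relBlock_spec two_rel_36 (by omega) (by omega)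
  rcases Nat.lt_or_ge i 40 with h | h
  · exact relBlock_spec two_rel_38 (by omega) (by omega)
  rcases Nat.lt_or_ge i 42 with h | h
  · exact relBlock_spec two_rel_40 (by omega) (by omega)
  rcases Nat.lt_or_ge i 44 with h | h
  · exact relBlock_spec two_rel_42 (by omega) (by omega)
  rcases Nat.lt_or_ge i 46 with h | h
  · exact relBlock_spec two_rel_44 (by omega) (by omega)
  rcases Nat.lt_or_ge i 48 with h | h
  · exact relBlock_spec two_rel_46 (by omega) (by omega)
  rcases Nat.lt_or_ge i 50 with h | h
  · exact relBlock_spec two_rel_48 (by omega) (by omega)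
  rcases Nat.lt_or_ge i 52 with h | h
  · exact relBlock_spec two_rel_50 (by omega) (by omega)
  rcases Nat.lt_or_ge i 54 with h | h
  · exact relBlock_spec two_rel_52 (by omega) (by omega)
  rcases Nat.lt_or_ge i 56 with h | h
  · exact relBlock_spec two_rel_54 (by omega) (by omega)
  rcases Nat.lt_or_ge i 58 with h | h
  · exact relBlock_spec two_rel_56 (by omega) (by omega)
  rcases Nat.lt_or_ge i 60 with h | h
  · exact relBlock_spec two_rel_58 (by omega) (by omega)
  rcases Nat.lt_or_ge i 62 with h | h
  · exact relBlock_spec two_rel_60 (by omega) (by omega)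
  rcases Nat.lt_or_ge i 64 with h | h
  · exact relBlock_spec two_rel_62 (by omega) (by omega)
  rcases Nat.lt_or_ge i 66 with h | h
  · exact relBlock_spec two_rel_64 (by omega) (by omega)
  rcases Nat.lt_or_ge i 68 with h | h
  · exact relBlock_spec two_rel_66 (by omega) (by omega)
  rcases Nat.lt_or_ge i 70 with h | h
  · exact relBlock_spec two_rel_68 (by omega) (by omega)
  rcases Nat.lt_or_ge i 72 with h | h
  · exact relBlock_spec two_rel_70 (by omega) (by omega)
  rcases Nat.lt_or_ge i 74 with h | h
  · exact relBlock_spec two_rel_72 (by omega) (by omega)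
  rcases Nat.lt_or_ge i 76 with h | h
  · exact relBlock_spec two_rel_74 (by omega) (by omega)
  rcases Nat.lt_or_ge i 78 with h | h
  · exact relBlock_spec two_rel_76 (by omega) (by omega)
  rcases Nat.lt_or_ge i 80 with h | h
  · exact relBlock_spec two_rel_78 (by omega) (by omega)
  rcases Nat.lt_or_ge i 82 with h | h
  · exact relBlock_spec two_rel_80 (by omega) (by omega)
  rcases Nat.lt_or_ge i 84 with h | h
  · exact relBlock_spec two_rel_82 (by omega) (by omega)
  exact relBlock_spec two_rel_84 (by omega) (by omega)

theorem two_chain_ok : ((Two.chain.all fun lv => lv.gens.all fun g => g.all fun x =>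
      Nat.beq (x % 2) 0 && Nat.blt (x / 2) Two.cert.n) &&
    chainCheck (2 * Two.cert.ng) 2058 Two.cols Two.chain && Nat.beq (chainProd Two.chain) (Two.cert.l ^ Two.cert.n)) = true := by
  decide +kernel

theorem two_data_ok : dataOK Two.cert Two.words Two.cols Two.chain = true := by
  have h1 := two_perm_ok
  have h2 := two_word_ok
  have h3 := two_rels_ok
  have h4 := two_chain_ok
  simp only [Bool.and_eq_true] at h1 h4
  simp only [dataOK, Bool.and_eq_true]
  exact ⟨⟨⟨⟨⟨⟨h1.1, h1.2⟩, h2⟩, h3⟩, h4.1.1⟩, h4.1.2⟩, h4.2⟩

theorem two_ok : Two.cert.check = true ∧ dataOK Two.cert Two.words Two.cols Two.chain = true :=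
  ⟨two_cert_ok, two_data_ok⟩

end Cfsg.Agent.H44.He
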