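import Cfsg.Agent.H44.He.Blocks
import Cfsg.Agent.H44.He.Two

/-!
Kernel checks of the letter words at the prime two for the Held group, part 1.
-/

set_option autoImplicit false
set_option Elab.async false
set_option maxRecDepth 100000

namespace Cfsg.Agent.H44.He

theorem two_word_0 : wordIdxOK Two.words Two.cols 0 = true := by decide +kernel

theorem two_word_1 : wordIdxOK Two.words Two.cols 1 = true := by decide +kernel

theorem two_word_2 : wordIdxOK Two.words Two.cols 2 = true := by decide +kernel

theorem two_word_3 : wordIdxOK Two.words Two.cols 3 = true := by decide +kernel

theorem two_word_4 : wordIdxOK Two.words Two.cols 4 = true := by decide +kernel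

theorem two_word_5 : wordIdxOK Two.words Two.cols 5 = true := by decide +kernel

theorem two_word_6 : wordIdxOK Two.words Two.cols 6 = true := by decide +kernel

theorem two_word_7 : wordIdxOK Two.words Two.cols 7 = true := by decide +kernel

theorem two_word_8 : wordIdxOK Two.words Two.cols 8 = true := by decide +kernel

theorem two_word_9 : wordIdxOK Two.words Two.cols 9 = true := by decide +kernel

theorem two_word_10 : wordIdxOK Two.words Two.cols 10 = true := by decide +kernel

theorem two_word_11 : wordIdxOK Two.words Two.cols 11 = true := by decide +kernel

theorem two_word_12 : wordIdxOK Two.words Two.cols 12 = true := by decide +kernel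

theorem two_word_13 : wordIdxOK Two.words Two.cols 13 = true := by decide +kernel

theorem two_word_14 : wordIdxOK Two.words Two.cols 14 = true := by decide +kernel

theorem two_word_15 : wordIdxOK Two.words Two.cols 15 = true := by decide +kernel

end Cfsg.Agent.H44.He
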