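import Cfsg.Agent.H44.He.CheckTwo
import Cfsg.Agent.H44.He.CheckThree
import Cfsg.Agent.H44.He.CheckFive
import Cfsg.Agent.H44.He.CheckSeven

/-!
The Schur multiplier of the Held group is trivial.
-/

set_option autoImplicit false
set_option Elab.async false
set_option maxRecDepth 100000

namespace Cfsg.Agent.H44.He

open Cfsg.Agent.H45 Cfsg.Agent.Linear.Mult

theorem multiplier : Cfsg.HasCyclicSchurMultiplier Cfsg.Spor.He 1 := by
  change Cfsg.HasCyclicSchurMultiplier HePres.pres.Gp 1
  obtain ⟨hfin, hcard, -⟩ := HeMain.order_facts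
  have : Finite HePres.pres.Gp := hfin
  refine hasTrivialMultiplier_of_noStem fun l hl => ?_
  by_cases h2 : l = 2
  · subst h2
    exact noStem_of_data two_ok.1 two_ok.2 Nat.prime_two (by decide +kernel)
  by_cases h3 : l = 3
  · subst h3
    exact noStem_of_data three_ok.1 three_ok.2 Nat.prime_three (by decide +kernel)
  by_cases h5 : l = 5
  · subst h5
    exact noStem_of_data five_ok.1 five_ok.2 (show Nat.Prime _ by exact hl) (by decide +kernel)
  by_cases h7 : l = 7
  · subst h7
    exact noStem_of_data seven_ok.1 seven_ok.2 (show Nat.Prime _ by exact hl) (by decide +kernel)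
  refine Cfsg.Agent.H34.SylCert.noStem_of_not_sq_dvd hl fun hd => ?_
  rw [hcard, show 4030387200 = 2 ^ 10 * (3 ^ 3 * (5 ^ 2 * (7 ^ 3 * 17))) by norm_num] at hd
  have c : ∀ p k : ℕ, p.Prime → l ≠ p → Nat.Coprime (l ^ 2) (p ^ k) := fun p k hp hne =>
    Nat.Coprime.pow 2 k ((Nat.coprime_primes hl hp).2 hne)
  have hdm := (c 7 3 (by norm_num) h7).dvd_of_dvd_mul_left ((c 5 2 (by norm_num) h5).dvd_of_dvd_mul_left
    ((c 3 3 Nat.prime_three h3).dvd_of_dvd_mul_left ((c 2 10 Nat.prime_two h2).dvd_of_dvd_mul_left hd)))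
  have hle := Nat.le_of_dvd (by norm_num) hdm
  have h4 := Nat.pow_le_pow_left hl.two_le 2
  have hl4 : l ≤ 4 := by nlinarith
  interval_cases l <;> simp_all (config := { decide := true })

end Cfsg.Agent.H44.He
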