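import Cfsg.Agent.H45.HeMain
import Cfsg.Agent.H34.SylCert.Sound

/-!
Checking Sylow certificates in the action of the presented Held group on 2058 points.
-/

set_option autoImplicit false

namespace Cfsg.Agent.H44.He

open Cfsg.Agent.H45

/-- the word of a signed generator -/
def sword (W : List (List ℕ)) (x : ℕ) : List ℕ :=
  if x % 2 = 0 then W.getD (x / 2) [] else (W.getD (x / 2) []).reverse

/-- a column is the product of a list of columns -/
noncomputable def colEq (cs : List ℕ) (c : ℕ) : ℕ → Bool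
  | 0 => true
  | i + 1 => Nat.beq (walkC cs i) (cget c i) && colEq cs c i

theorem colEq_sound {cs : List ℕ} {c : ℕ} : ∀ {m : ℕ}, colEq cs c m = true →
    ∀ i, i < m → walkC cs i = cget c i := by
  intro m
  induction m with
  | zero => intro _ i hi; omega
  | succ m ih =>
    intro h i hi
    simp only [colEq, Bool.and_eq_true, Nat.beq_eq] at h
    rcases Nat.lt_succ_iff_lt_or_eq.mp hi with hi | rfl
    · exact ih h.2 i hi
    · exact h.1

/-- the formal inverses of the signed letters -/
def ivs (L : ℕ) : List ℕ := (List.range L).map fun x => x ^^^ 1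

/-- all checks on the data of one prime -/
noncomputable def dataOK (C : Cfsg.Agent.H34.SylCert.Cert) (W : List (List ℕ)) (cols : List ℕ)
    (lvs : List Lvl) : Bool :=
  Nat.beq W.length C.ng && permCheck (2 * C.ng) 2058 (ivs (2 * C.ng)) cols [] &&
    ((List.range (2 * C.ng)).all fun x => (sword W x).all (fun l => Nat.blt l 7) &&
      colEq ((sword W x).map fun l => HeI2058.cols.getD l 0) (cols.getD x 0) 2058) &&
    (C.rels.all fun w => w.all (fun x => Nat.blt x (2 * C.ng)) &&
      fixAll (w.map fun x => cols.getD x 0) 2058) &&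
    (lvs.all fun lv => lv.gens.all fun g => g.all fun x =>
      Nat.beq (x % 2) 0 && Nat.blt (x / 2) C.n) &&
    chainCheck (2 * C.ng) 2058 cols lvs && Nat.beq (chainProd lvs) (C.l ^ C.n)

theorem noStem_of_data {C : Cfsg.Agent.H34.SylCert.Cert} {W : List (List ℕ)} {cols : List ℕ}
    {lvs : List Lvl} (hC : C.check = true) (hd : dataOK C W cols lvs = true) (hl : C.l.Prime)
    (hord : ¬ C.l ^ (C.n + 1) ∣ 4030387200) :
    Cfsg.Agent.Linear.Mult.NoStem C.l HePres.pres.Gp := by
  obtain ⟨hfin, hcard, φ, hA, hinj, -⟩ := HeMain.order_facts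
  simp only [dataOK, Bool.and_eq_true, Nat.beq_eq, List.all_eq_true, blt_iff,
    List.mem_range] at hd
  obtain ⟨⟨⟨⟨⟨⟨hW, hp⟩, hlet⟩, hrel⟩, hgens⟩, hchain⟩, hprod⟩ := hd
  set L : ℕ → HePres.pres.Gp := fun k => evalW HePres.pres.e (W.getD k []) with hLdef
  have hlv : ∀ x, Cfsg.Agent.H34.SylCert.lv L x = evalW HePres.pres.e (sword W x) := by
    intro x
    unfold Cfsg.Agent.H34.SylCert.lv sword
    split
    · rfl
    · have hD : Hyp ⟨7, List.range 7, [], HePres.pres.R, []⟩ HePres.pres.e
          (⊥ : Subgroup HePres.pres.Gp) :=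
        ⟨HePres.ok.e_inv _, HePres.ok.rel, fun _ h => by simp at h⟩
      rw [hLdef, ← evalW_winv hD]
      congr 1
      have hid : (fun l => linv (List.range 7) l) = id := funext (linv_range 7)
      simp [winv, hid]
  let T := permCheck_PT hp
  have hcol : ∀ x, x < 2 * C.ng → φ (Cfsg.Agent.H34.SylCert.lv L x) = sig T x := by
    intro x hx
    obtain ⟨hlt, heq⟩ := hlet x hx
    rw [hlv, hA.evalW _ (fun l hl => by rw [HeMain.rl]; exact hlt l hl), ← inv_inj]
    apply Equiv.ext; intro i; apply Fin.ext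
    rw [sig_walk _ _ (fun l hl => by rw [HeMain.rl]; exact hlt l hl), ← walkC_map,
      colEq_sound heq _ i.isLt]
    have h1 := sig_walk T [x] (fun l hl => by simp only [List.mem_singleton] at hl; omega) i
    rw [show evalW (sig T) [x] = sig T x by simp [evalW]] at h1
    rw [h1]
    rfl
  have hval : ∀ w : List ℕ, (∀ x ∈ w, x < 2 * C.ng) →
      φ (Cfsg.Agent.H34.SylCert.val L w) = evalW (sig T) w := by
    intro w hw
    unfold Cfsg.Agent.H34.SylCert.val evalW
    rw [map_list_prod, List.map_map]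
    exact congrArg List.prod (List.map_congr_left fun x hx => hcol x (hw x hx))
  have : Finite HePres.pres.Gp := hfin
  refine Cfsg.Agent.H34.SylCert.noStem C hl hC L (fun w hw => ?_) ?_ (by rwa [hcard])
  · obtain ⟨hlt, hfix⟩ := hrel w hw
    apply hinj
    rw [map_one, hval w hlt, ← inv_eq_one]
    apply Equiv.ext; intro i; apply Fin.ext
    rw [sig_walk T w hlt, ← walkC_map, fixAll_sound hfix _ i.isLt]
    rfl
  · rw [← hprod]
    have hlen : C.n ≤ C.ng := by
      simp only [Cfsg.Agent.H34.SylCert.Cert.check, Cfsg.Agent.H34.SylCert.Cert.checkShape,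
        Bool.and_eq_true, decide_eq_true_eq] at hC
      exact hC.1.1.1.1
    set H := Subgroup.closure (Cfsg.Agent.H34.SylCert.tailGens L 0 C.n) with hH
    refine le_trans (chainCheck_sound T hchain (H.map φ) fun lv hlv' g hg => ?_)
      (Nat.le_of_dvd Nat.card_pos (Subgroup.card_map_dvd H φ))
    have hlt := chainCheck_letters hchain lv hlv' g hg
    refine ⟨Cfsg.Agent.H34.SylCert.val L g, list_prod_mem fun y hy => ?_, hval g hlt⟩
    obtain ⟨x, hx, rfl⟩ := List.mem_map.mp hy
    obtain ⟨h2, hn⟩ := hgens lv hlv' g hg x hx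
    simp only [Cfsg.Agent.H34.SylCert.lv, h2, if_pos]
    exact Subgroup.subset_closure ⟨x / 2, ⟨Nat.zero_le _, hn⟩, rfl⟩

end Cfsg.Agent.H44.He
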